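import Mathlib
import Cfsg.Agent.Lib.Characters.Inner

/-!
# Character values at products of two involutions and sums over subgroups
-/

set_option autoImplicit false
set_option linter.style.haveILetI false

namespace Cfsg.Agent.ExtremelyClosed.Values

open Cfsg.Agent.Characters
open scoped ComplexConjugate
open Module

universe u

variable {G : Type u} [Group G] [Finite G]

/-- The real part of a character at `a b` for two elements squaring to one. -/
theorem re_mul_ge {χ : G → ℂ} (hχ : Cfsg.IsCharacter G χ) {a b : G} (ha : a * a = 1)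
    (hb : b * b = 1) : (χ a).re + (χ b).re - (χ 1).re ≤ (χ (a * b)).re := by
  classical
  obtain ⟨n, ρ, rfl⟩ := hχ
  set d : ℕ := finrank ℂ (Fin n → ℂ) with hd
  -- the number of eigenvalues one
  have key : ∀ g : G, ∀ (bs : Basis (Fin d) ℂ (Fin n → ℂ)) (w : Fin d → ℂ),
      (∀ i, ρ g (bs i) = w i • bs i) →
      finrank ℂ (LinearMap.ker (ρ g - 1)) =
        (Finset.univ.filter fun i => w i = 1).card := by
    intro g bs w h
    have hker : LinearMap.ker (ρ g - 1) =
        Submodule.span ℂ (bs '' {i | w i = 1}) := by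
      apply le_antisymm
      · intro v hv
        rw [Basis.mem_span_image]
        intro i hi
        have h1 : bs.repr (ρ g v) i = w i * bs.repr v i := by
          conv_lhs => rw [← bs.sum_repr v]
          rw [map_sum, map_sum, Finsupp.finsetSum_apply, Finset.sum_eq_single i]
          · rw [map_smul, h, map_smul, map_smul, bs.repr_self]
            simp [mul_comm]
          · intro j _ hj
            rw [map_smul, h, map_smul, map_smul, bs.repr_self]
            simp [hj]
          · simp
        rw [LinearMap.mem_ker, LinearMap.sub_apply, sub_eq_zero, Module.End.one_apply] at hv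
        rw [hv] at h1
        show w i = 1
        exact (mul_eq_right₀ (Finsupp.mem_support_iff.1 hi)).1 h1.symm
      · rw [Submodule.span_le]
        rintro v ⟨i, hi, rfl⟩
        show bs i ∈ LinearMap.ker (ρ g - 1)
        rw [LinearMap.mem_ker, LinearMap.sub_apply, Module.End.one_apply, h,
          show w i = 1 from hi, one_smul, sub_self]
    have hli := bs.linearIndependent.comp
      (fun i : {i // w i = 1} => (i : Fin d)) Subtype.val_injective
    rw [hker, show (bs '' {i | w i = 1}) = Set.range (bs ∘ fun i : {i // w i = 1} => (i : Fin d)) by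
      ext v; simp, finrank_span_eq_card hli, Fintype.card_subtype]
  have hre : ∀ g : G, ∀ (bs : Basis (Fin d) ℂ (Fin n → ℂ)) (w : Fin d → ℂ),
      (∀ i, ρ g (bs i) = w i • bs i) → (ρ.character g).re = ∑ i, (w i).re := fun g bs w h => by
    rw [show ρ.character g = ∑ i, w i from trace_of_eigenbasis bs w h, Complex.re_sum]
  have hinv : ∀ g : G, g * g = 1 →
      (ρ.character g).re = 2 * (finrank ℂ (LinearMap.ker (ρ g - 1)) : ℝ) - d := by
    intro g hg
    obtain ⟨bs, w, hw, h⟩ := exists_eigenbasis ρ g
    have hsq : ∀ i, w i * w i = 1 := fun i => by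
      obtain ⟨j, hj⟩ : orderOf g ∣ 2 := orderOf_dvd_of_pow_eq_one (by rw [pow_two, hg])
      rw [← pow_two, hj, pow_mul, hw i, one_pow]
    rw [key g bs w h, hre g bs w h, ← sub_eq_zero]
    have : ∀ i, (w i).re = 2 * (if w i = 1 then (1 : ℝ) else 0) - 1 := fun i => by
      rcases mul_self_eq_one_iff.1 (hsq i) with h' | h'
      · norm_num [h']
      · have : (-1 : ℂ) ≠ 1 := by norm_num
        norm_num [h', this]
    simp_rw [this, Finset.sum_sub_distrib, ← Finset.mul_sum, Finset.sum_boole]
    simp
  have hprod : 2 * (finrank ℂ (LinearMap.ker (ρ (a * b) - 1)) : ℝ) - d ≤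
      (ρ.character (a * b)).re := by
    obtain ⟨bs, w, hw, h⟩ := exists_eigenbasis ρ (a * b)
    rw [key _ bs w h, hre _ bs w h]
    have : ∀ i, 2 * (if w i = 1 then (1 : ℝ) else 0) - 1 ≤ (w i).re := fun i => by
      split_ifs with hi
      · norm_num [hi]
      · have hn := Complex.norm_eq_one_of_pow_eq_one (hw i) (orderOf_pos _).ne'
        have := (abs_le.1 (Complex.abs_re_le_norm (w i))).1
        rw [hn] at this
        linarith
    refine le_trans (le_of_eq ?_) (Finset.sum_le_sum fun i _ => this i)
    rw [Finset.sum_sub_distrib, ← Finset.mul_sum, Finset.sum_boole]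
    simp
  have hsub : LinearMap.ker (ρ a - 1) ⊓ LinearMap.ker (ρ b - 1) ≤
      LinearMap.ker (ρ (a * b) - 1) := by
    rintro v ⟨hva, hvb⟩
    simp only [SetLike.mem_coe, LinearMap.mem_ker, LinearMap.sub_apply, Module.End.one_apply,
      sub_eq_zero] at hva hvb ⊢
    rw [map_mul, Module.End.mul_apply, hvb, hva]
  have h1 := Submodule.finrank_mono hsub
  have h2 := Submodule.finrank_sup_add_finrank_inf_eq (LinearMap.ker (ρ a - 1))
    (LinearMap.ker (ρ b - 1))
  have h3 := (LinearMap.ker (ρ a - 1) ⊔ LinearMap.ker (ρ b - 1)).finrank_le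
  have h4 : (ρ.character 1).re = (d : ℝ) := by rw [ρ.char_one, hd]; simp
  rw [hinv a ha, hinv b hb, h4]
  have h5 : (finrank ℂ (LinearMap.ker (ρ a - 1)) : ℝ) +
      (finrank ℂ (LinearMap.ker (ρ b - 1)) : ℝ) ≤
      (d : ℝ) + (finrank ℂ (LinearMap.ker (ρ (a * b) - 1)) : ℝ) := by
    exact_mod_cast (by omega : finrank ℂ (LinearMap.ker (ρ a - 1)) +
      finrank ℂ (LinearMap.ker (ρ b - 1)) ≤ d + finrank ℂ (LinearMap.ker (ρ (a * b) - 1)))
  linarith

/-- The sum of a character over a subgroup is a natural multiple of its order. -/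
theorem exists_nat_sum {χ : G → ℂ} (hχ : Cfsg.IsCharacter G χ) (E : Subgroup G) [Fintype E] :
    ∃ m : ℕ, ∑ e : E, χ e = (Nat.card E : ℂ) * m := by
  obtain ⟨m, hm⟩ := classInner_char_nat (isCharacter_restrict E hχ)
    (isCharacter_one (G := E))
  refine ⟨m, ?_⟩
  rw [← hm, classInner_def, ← mul_assoc, mul_inv_cancel₀ natCard_ne_zero, one_mul]
  simp

end Cfsg.Agent.ExtremelyClosed.Values
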