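import Mathlib
import Cfsg.Agent.Lib.ExtremelyClosed.Values
import Cfsg.Agent.Lib.Characters.Counting
import Cfsg.Agent.Lib.ZStar.Principal
import Cfsg.Agent.Lib.ZStar.KleinFour
import Cfsg.Agent.Lib.Blocks.SectionNorm
import Cfsg.Agent.InvChar.Core
import Cfsg.Agent.BlockCharsA.DefectZeroVanish

/-!
# A kernel containing an elementary abelian 2-group whose conjugates are twisted by odd subgroups

Let `E` be an elementary abelian 2-subgroup of order at least four, none of whose involutions is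
alone in its class within `E`, such that each conjugate of `E` is `k E k⁻¹` for some `k` in a
subgroup `K` of odd order normalised by `E` with `K ∩ C(u) ≤ O(C(u))` for `1 ≠ u ∈ E`.  With
`S χ = ∑ χ(t)`, `t` over the involutions of `E`, and `m` their number, the principal 2-block
satisfies `S χ ^ 2 = χ(1) ((m - 1) S χ + R χ)`, where `R χ` is an average of values at elements of
odd order.  As `R χ ≥ 2 S χ - m χ(1)`, a character without `E` in its kernel has `S χ ≤ χ(1)`, and
block orthogonality then shows that some nonprincipal character has `E` in its kernel.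
-/

set_option autoImplicit false
set_option linter.style.haveILetI false
set_option linter.unusedSectionVars false

namespace Cfsg.Agent.ExtremelyClosed.BlockSum

open Cfsg.Agent.Characters Cfsg.Agent.Blocks
open scoped ComplexConjugate

universe u

variable {G : Type u} [Group G] [Finite G] {M : Ideal Cfsg.AlgInt}

/-- Characters of the principal block on a twisted product of two involutions of `E`. -/
theorem value_twist (hM : Cfsg.IsPModular 2 M) {χ : Cfsg.IrrCharacter G}
    (hχ : χ ∈ Cfsg.principalBlock M G) {E K : Subgroup G} (hE : ∀ e ∈ E, e * e = 1)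
    (hK : Odd (Nat.card K)) (hEK : ∀ e ∈ E, ∀ x ∈ K, e * x * e⁻¹ ∈ K)
    (hcore : ∀ u ∈ E, u ≠ 1 → ∀ s ∈ K, ∀ hs : s ∈ Subgroup.centralizer ({u} : Set G),
      (⟨s, hs⟩ : Subgroup.centralizer ({u} : Set G)) ∈
        Cfsg.oddCore (Subgroup.centralizer ({u} : Set G)))
    {t y k : G} (ht : t ∈ E) (hy : y ∈ E) (hk : k ∈ K) (hne : t * y ≠ 1) :
    (χ : G → ℂ) (t * (k * y * k⁻¹)) = (χ : G → ℂ) (t * y) := by
  have hinv : ∀ e ∈ E, e⁻¹ = e := fun e he => inv_eq_of_mul_eq_one_right (hE e he)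
  obtain ⟨u, hu⟩ : ∃ u, u = t * y := ⟨_, rfl⟩
  have huE : u ∈ E := hu ▸ mul_mem ht hy
  have hu2 := hE u huE
  rw [← hu] at hne ⊢
  set r := y * k * y⁻¹ * k⁻¹ with hr
  have hrK : r ∈ K := mul_mem (hEK y hy k hk) (inv_mem hk)
  have hm : t * (k * y * k⁻¹) = u * r := by
    rw [hu, hr, hinv y hy]
    calc t * (k * y * k⁻¹) = t * (y * y) * (k * y * k⁻¹) := by rw [hE y hy, mul_one]
      _ = t * y * (y * k * y * k⁻¹) := by group
  rw [hm]
  have hodd : ∀ x ∈ K, Odd (orderOf x) := fun x hx => hK.of_dvd_nat (K.orderOf_dvd_natCard hx)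
  have hconjK : ∀ x ∈ K, u * x * u ∈ K := fun x hx => by
    have := hEK u huE x hx
    rwa [hinv u huE] at this
  set m := u * r with hmdef
  have hm2 : m * m ∈ K := by
    rw [hmdef, show u * r * (u * r) = u * r * u * r by group]
    exact mul_mem (hconjK r hrK) hrK
  obtain ⟨i, hi⟩ := hodd _ hm2
  -- the involution of `m` and its odd part
  set w := m * (m * m) ^ i with hw
  have hw2 : w * w = 1 := by
    have hc : Commute m ((m * m) ^ i) :=
      ((Commute.refl m).mul_right (Commute.refl m)).pow_right i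
    rw [hw, hc.symm.mul_mul_mul_comm, ← pow_add, ← pow_succ', show i + i + 1 = orderOf (m * m) by
      omega, pow_orderOf_eq_one]
  set r' := u * w with hr'
  have hr'K : r' ∈ K := by
    rw [hr', hw, hmdef, ← mul_assoc, ← mul_assoc, hu2, one_mul]
    exact mul_mem hrK (pow_mem hm2 _)
  have hrinv : u * r' * u = r'⁻¹ := by
    rw [hr', ← mul_assoc, hu2, one_mul, mul_inv_rev, hinv u huE, inv_eq_of_mul_eq_one_right hw2]
  obtain ⟨j, hj⟩ := hodd _ hr'K
  set c := r' ^ (j + 1) with hc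
  have hcK : c ∈ K := pow_mem hr'K _
  have hcinv : u * c * u = c⁻¹ := by
    rw [hc, ← inv_pow, ← hrinv]
    conv_rhs => rw [show u * r' * u = u * r' * u⁻¹ by rw [hinv u huE]]
    rw [conj_pow, hinv u huE]
  have hcc : c * c = r' := by
    rw [hc, ← pow_add, show j + 1 + (j + 1) = orderOf r' + 1 by omega, pow_succ,
      pow_orderOf_eq_one, one_mul]
  have hwc : c * w * c⁻¹ = u := by
    have h1 : w = u * (c * c) := by rw [hcc, hr', ← mul_assoc, hu2, one_mul]
    have h2 : c * u = u * c⁻¹ := by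
      rw [← hcinv, ← mul_assoc, ← mul_assoc, hu2, one_mul]
    calc c * w * c⁻¹ = c * u * c := by rw [h1]; group
      _ = u := by rw [h2]; group
  have hmw : Commute m w := (Commute.refl m).mul_right
    (((Commute.refl m).mul_right (Commute.refl m)).pow_right i)
  have hmu : Commute (c * m * c⁻¹) u := hwc ▸ hmw.map (MulAut.conj c).toMonoidHom
  set s := u * (c * m * c⁻¹) with hs
  have hsC : s ∈ Subgroup.centralizer ({u} : Set G) :=
    Subgroup.mem_centralizer_singleton_iff.2 (((Commute.refl u).mul_left hmu).eq)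
  have hsK : s ∈ K := by
    rw [hs, hmdef, show u * (c * (u * r) * c⁻¹) = u * c * u * r * c⁻¹ by group]
    exact mul_mem (mul_mem (hconjK c hcK) hrK) (inv_mem hcK)
  haveI : Fact (Nat.Prime 2) := ⟨Nat.prime_two⟩
  have hN : ¬ 2 ∣ Nat.card (Cfsg.oddCore (Subgroup.centralizer ({u} : Set G))) := by
    rw [← even_iff_two_dvd, Nat.not_even_iff_odd]
    exact InvChar.Core.odd_card_oddCore
  have hval := ZStar.Principal.value_mul_of_mem hM (x := u)
    ⟨1, by rw [pow_one]; exact orderOf_eq_prime (by rw [pow_two, hu2]) hne⟩ hχ hN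
    (hcore u huE hne s hsK hsC)
  simp only at hval
  rw [← hval, hs, ← mul_assoc, hu2, one_mul]
  exact (irr_isClassFunction χ m c).symm

open scoped Classical in
/-- The sum over the principal block of the squares at an involution centralised by `E`. -/
theorem card_le_sum_sq [Fintype (Cfsg.IrrCharacter G)] (hM : Cfsg.IsPModular 2 M) (E : Subgroup G)
    (hE : IsPGroup 2 E) {t : G} (ht : orderOf t = 2) (hcomm : ∀ e ∈ E, Commute t e) :
    (Nat.card E : ℝ) ≤ ∑ χ ∈ Finset.univ.filter (fun χ : Cfsg.IrrCharacter G =>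
      χ ∈ Cfsg.principalBlock M G), ‖(χ : G → ℂ) t‖ ^ 2 := by
  haveI : Fact (Nat.Prime 2) := ⟨Nat.prime_two⟩
  have hconv : ∀ {α : Type u} [Fintype α] (s : Set α) (f : α → ℝ),
      ∑ᶠ i ∈ s, f i = ∑ i ∈ Finset.univ.filter (fun i => i ∈ s), f i := fun s f =>
    ZStar.Principal.finsum_mem_eq_sum_filter s f
  set C := Subgroup.centralizer ({t} : Set G) with hC
  haveI := Fintype.ofFinite (Cfsg.IrrCharacter C)
  have h := Blocks.norm_section_eq hM (z := t) ⟨1, by rw [ht, pow_one]⟩ (y := (1 : C)) (by simp)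
  simp only [OneMemClass.coe_one, mul_one] at h
  rw [← hconv, h, hconv]
  have hEC : E ≤ C := fun e he => Subgroup.mem_centralizer_singleton_iff.2 (hcomm e he).eq.symm
  set E' := E.subgroupOf C with hE'
  haveI := Fintype.ofFinite E'
  have hcard : Nat.card E' = Nat.card E := Nat.card_congr (Subgroup.subgroupOfEquivOfLe hEC).toEquiv
  have hE'p : IsPGroup 2 E' := hE.of_equiv (Subgroup.subgroupOfEquivOfLe hEC).symm
  set B := Finset.univ.filter fun χ : Cfsg.IrrCharacter C => χ ∈ Cfsg.principalBlock M C with hB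
  choose m hm using fun χ : Cfsg.IrrCharacter C => Values.exists_nat_sum (irr_isCharacter χ) E'
  choose d hd using fun χ : Cfsg.IrrCharacter C => char_one_nat (irr_isCharacter χ)
  have h1 : ∑ χ ∈ B, (χ : C → ℂ) 1 * conj (∑ e : E', (χ : C → ℂ) e) =
      ∑ χ ∈ B, (χ : C → ℂ) 1 * conj ((χ : C → ℂ) 1) := by
    simp_rw [map_sum, Finset.mul_sum]
    rw [Finset.sum_comm, Finset.sum_eq_single (1 : E') ?_ (by simp)]
    · simp
    · intro e _ he
      have := sum_block_reg_sing hM (intEl_blockIdem hM (isPBlock_principal M C))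
        (x := (1 : C)) (y := (e : C)) (by simp) ?_
      · rw [ZStar.Principal.finsum_mem_eq_sum_filter] at this
        exact this
      · obtain ⟨k, hk⟩ := IsPGroup.iff_orderOf.1 hE'p e
        rw [Subgroup.orderOf_coe, hk]
        exact dvd_pow_self 2 fun h0 => he (orderOf_eq_one_iff.1 (by rw [hk, h0, pow_zero]))
  simp only [hm, hd, map_mul, map_natCast] at h1
  have h2 : ∑ χ ∈ B, (d χ : ℝ) * ((Nat.card E' : ℝ) * m χ) = ∑ χ ∈ B, (d χ : ℝ) * d χ := by
    exact_mod_cast h1
  have htriv : trivIrr C ∈ B := Finset.mem_filter.2 ⟨Finset.mem_univ _, trivIrr_mem_principal hM⟩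
  have hd1 : d (trivIrr C) = 1 := by
    have := hd (trivIrr C)
    simp only [trivIrr_coe] at this
    exact_mod_cast this.symm
  have hm1 : m (trivIrr C) = 1 := by
    have := hm (trivIrr C)
    simp only [trivIrr_coe, Finset.sum_const, Finset.card_univ, nsmul_eq_mul, mul_one,
      ← Nat.card_eq_fintype_card] at this
    have hne : (Nat.card E' : ℂ) ≠ 0 := Nat.cast_ne_zero.2 Nat.card_pos.ne'
    exact_mod_cast (mul_left_cancel₀ hne (by rw [mul_one]; exact this.symm) :
      (m (trivIrr C) : ℂ) = 1)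
  calc (Nat.card E : ℝ) = (d (trivIrr C) : ℝ) * ((Nat.card E' : ℝ) * m (trivIrr C)) := by
        rw [hd1, hm1, hcard]; simp
    _ ≤ ∑ χ ∈ B, (d χ : ℝ) * ((Nat.card E' : ℝ) * m χ) :=
        Finset.single_le_sum (f := fun χ => (d χ : ℝ) * ((Nat.card E' : ℝ) * m χ))
          (fun χ _ => by positivity) htriv
    _ = ∑ χ ∈ B, (d χ : ℝ) * d χ := h2
    _ = ∑ χ ∈ B, ‖(χ : C → ℂ) 1‖ ^ 2 := Finset.sum_congr rfl fun χ _ => by
        rw [hd, Complex.norm_natCast, pow_two]

/-- Some nonprincipal character has `E` in its kernel. -/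
theorem exists_char_kernel (E : Subgroup G) (hE : ∀ e ∈ E, e * e = 1) (hcard : 4 ≤ Nat.card E)
    (hmove : ∀ z ∈ E, z ≠ 1 → ∃ g : G, g * z * g⁻¹ ∈ E ∧ g * z * g⁻¹ ≠ z)
    (hpair : ∀ g : G, ∃ k : G, ∃ K : Subgroup G, Odd (Nat.card K) ∧
      (∀ e ∈ E, ∀ x ∈ K, e * x * e⁻¹ ∈ K) ∧ k ∈ K ∧
      (∀ z : G, z ∈ E ↔ k⁻¹ * (g * z * g⁻¹) * k ∈ E) ∧
      ∀ u ∈ E, u ≠ 1 → ∀ s ∈ K, ∀ hs : s ∈ Subgroup.centralizer ({u} : Set G),
        (⟨s, hs⟩ : Subgroup.centralizer ({u} : Set G)) ∈
          Cfsg.oddCore (Subgroup.centralizer ({u} : Set G))) :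
    ∃ χ : Cfsg.IrrCharacter G, χ ≠ trivIrr G ∧ ∀ e ∈ E, (χ : G → ℂ) e = (χ : G → ℂ) 1 := by
  classical
  haveI := Fintype.ofFinite G
  haveI := Fintype.ofFinite (Cfsg.IrrCharacter G)
  haveI : Fact (Nat.Prime 2) := ⟨Nat.prime_two⟩
  by_contra hcon
  push Not at hcon
  obtain ⟨M, hM⟩ := BlockCharsA.DefectZeroVanish.exists_modular Nat.prime_two
  choose k K hK hEK hkK hbij hcore using hpair
  set T := Finset.univ.filter (fun e : G => e ∈ E ∧ e ≠ 1) with hT
  have hmT : ∀ {e : G}, e ∈ T ↔ e ∈ E ∧ e ≠ 1 := by simp [hT]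
  have hTE : ∀ {e : G}, e ∈ T → e ∈ E := fun h => (hmT.1 h).1
  have hcardT : T.card + 1 = Nat.card E := by
    have : T = (Finset.univ.filter (fun e : G => e ∈ E)).erase 1 := by
      ext e; simp [hT, and_comm]
    rw [this, Finset.card_erase_add_one (by simp [one_mem]), Nat.card_eq_fintype_card]
    exact (Fintype.card_subtype _).symm
  have hord : ∀ {e : G}, e ∈ T → orderOf e = 2 := fun {e} he =>
    orderOf_eq_prime (by rw [pow_two, hE e (hTE he)]) (hmT.1 he).2
  -- values at involutions are real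
  have hreal : ∀ (χ : Cfsg.IrrCharacter G) {e : G}, e ∈ T →
      (χ : G → ℂ) e = (((χ : G → ℂ) e).re : ℂ) := fun χ e he => by
    obtain ⟨a, ha⟩ := ZStar.KleinFour.exists_int_value (irr_isCharacter χ) (hE e (hTE he))
    rw [ha]; simp
  set S : Cfsg.IrrCharacter G → ℝ := fun χ => ∑ t ∈ T, ((χ : G → ℂ) t).re with hS
  have hSC : ∀ χ : Cfsg.IrrCharacter G, ∑ t ∈ T, (χ : G → ℂ) t = (S χ : ℂ) := fun χ => by
    rw [hS, Complex.ofReal_sum]
    exact Finset.sum_congr rfl fun t ht => hreal χ ht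
  choose n hn0 hn using fun χ : Cfsg.IrrCharacter G => irr_one_pos χ.2
  set R : G → Cfsg.IrrCharacter G → ℂ :=
    fun g χ => ∑ t ∈ T, (χ : G → ℂ) (t * (k g * t * (k g)⁻¹)) with hR
  set B := Finset.univ.filter fun χ : Cfsg.IrrCharacter G => χ ∈ Cfsg.principalBlock M G with hB
  -- the basic identity
  have hid : ∀ χ ∈ B, (Nat.card G : ℂ) * ((S χ : ℂ) * (S χ : ℂ)) / (n χ : ℂ) =
      (Nat.card G : ℂ) * (((T.card : ℂ) - 1) * (S χ : ℂ)) + ∑ g : G, R g χ := by
    intro χ hχ
    have h1 : ∀ g : G, ∀ t ∈ T, ∑ z ∈ T, (χ : G → ℂ) (t * (g * z * g⁻¹)) =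
        ((S χ : ℂ) - (χ : G → ℂ) t) + (χ : G → ℂ) (t * (k g * t * (k g)⁻¹)) := by
      intro g t ht
      rw [← hSC χ, Finset.sum_bij' (i := fun z _ => (k g)⁻¹ * (g * z * g⁻¹) * k g)
        (j := fun y _ => g⁻¹ * (k g * y * (k g)⁻¹) * g)
        (t := T) (g := fun y => (χ : G → ℂ) (t * (k g * y * (k g)⁻¹))) ?_ ?_ ?_ ?_ ?_]
      · rw [← Finset.add_sum_erase _ _ ht, ← Finset.add_sum_erase _ (fun x => (χ : G → ℂ) x) ht,
          add_sub_cancel_left, add_comm]
        congr 1
        refine Finset.sum_bij' (fun y _ => t * y) (fun y _ => t * y) ?_ ?_ ?_ ?_ ?_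
        all_goals intro y hy
        all_goals obtain ⟨hyne, hyT⟩ := Finset.mem_erase.1 hy
        · refine Finset.mem_erase.2 ⟨fun e => (hmT.1 hyT).2 (mul_eq_left.1 e),
            hmT.2 ⟨mul_mem (hTE ht) (hTE hyT), fun e => hyne ?_⟩⟩
          rw [← inv_eq_of_mul_eq_one_right e, inv_eq_of_mul_eq_one_right (hE t (hTE ht))]
        · refine Finset.mem_erase.2 ⟨fun e => (hmT.1 hyT).2 (mul_eq_left.1 e),
            hmT.2 ⟨mul_mem (hTE ht) (hTE hyT), fun e => hyne ?_⟩⟩
          rw [← inv_eq_of_mul_eq_one_right e, inv_eq_of_mul_eq_one_right (hE t (hTE ht))]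
        · rw [← mul_assoc, hE t (hTE ht), one_mul]
        · rw [← mul_assoc, hE t (hTE ht), one_mul]
        · exact value_twist hM (Finset.mem_filter.1 hχ).2 hE (hK g) (hEK g) (hcore g)
            (hTE ht) (hTE hyT) (hkK g) fun e => hyne (by
              rw [← inv_eq_of_mul_eq_one_right e, inv_eq_of_mul_eq_one_right (hE t (hTE ht))])
      · intro z hz
        obtain ⟨hzE, hz1⟩ := hmT.1 hz
        refine hmT.2 ⟨(hbij g z).1 hzE, fun e => hz1 ?_⟩
        calc z = g⁻¹ * (k g * ((k g)⁻¹ * (g * z * g⁻¹) * k g) * (k g)⁻¹) * g := by group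
          _ = 1 := by rw [e]; group
      · intro y hy
        obtain ⟨hyE, hy1⟩ := hmT.1 hy
        refine hmT.2 ⟨(hbij g _).2 ?_, fun e => hy1 ?_⟩
        · rwa [show (k g)⁻¹ * (g * (g⁻¹ * (k g * y * (k g)⁻¹) * g) * g⁻¹) * k g = y by group]
        · calc y = (k g)⁻¹ * (g * (g⁻¹ * (k g * y * (k g)⁻¹) * g) * g⁻¹) * k g := by group
            _ = 1 := by rw [e]; group
      · intro z _; group
      · intro y _; group
      · intro z _
        congr 1
        group
    have h2 : ∀ g : G, ∑ t ∈ T, ∑ z ∈ T, (χ : G → ℂ) (t * (g * z * g⁻¹)) =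
        ((T.card : ℂ) - 1) * (S χ : ℂ) + R g χ := by
      intro g
      rw [Finset.sum_congr rfl (h1 g), Finset.sum_add_distrib, Finset.sum_sub_distrib, hSC]
      simp only [Finset.sum_const, nsmul_eq_mul, hR]
      ring
    have h3 : ∑ g : G, ∑ t ∈ T, ∑ z ∈ T, (χ : G → ℂ) (t * (g * z * g⁻¹)) =
        (Nat.card G : ℂ) * ((S χ : ℂ) * (S χ : ℂ)) / (n χ : ℂ) := by
      rw [Finset.sum_comm, ← hn, ← hSC, Finset.sum_mul_sum, Finset.mul_sum, Finset.sum_div]
      refine Finset.sum_congr rfl fun t _ => ?_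
      rw [Finset.sum_comm, Finset.mul_sum, Finset.sum_div]
      refine Finset.sum_congr rfl fun z _ => ?_
      rw [sum_mul_conjugates χ.2, mul_assoc]
    rw [← h3, Finset.sum_congr rfl fun g _ => h2 g, Finset.sum_add_distrib, Finset.sum_const,
      Finset.card_univ, nsmul_eq_mul, Nat.card_eq_fintype_card]
  have hGpos : (0 : ℝ) < Nat.card G := by exact_mod_cast Nat.card_pos
  have hTcard : 3 ≤ T.card := by omega
  -- the bound
  have hbound : ∀ χ ∈ B, χ ≠ trivIrr G → S χ ≤ n χ := by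
    intro χ hχ hne
    have hnpos : (0 : ℝ) < n χ := by exact_mod_cast hn0 χ
    have hn' : ((χ : G → ℂ) 1).re = n χ := by rw [hn]; simp
    have hle : ∀ t ∈ T, ((χ : G → ℂ) t).re ≤ n χ := fun t _ => by
      refine (Complex.re_le_norm _).trans ((char_norm_le (irr_isCharacter χ) t).trans ?_)
      rw [hn, Complex.norm_natCast]
    have hlt : S χ < T.card * (n χ : ℝ) := by
      obtain ⟨e, heE, he⟩ := hcon χ hne
      have heT : e ∈ T := hmT.2 ⟨heE, fun e1 => he (by rw [e1])⟩
      calc S χ < ∑ t ∈ T, (n χ : ℝ) := by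
            refine Finset.sum_lt_sum hle ⟨e, heT, lt_of_le_of_ne (hle e heT) fun e1 => he ?_⟩
            rw [hreal χ heT, e1, hn]; simp
        _ = T.card * (n χ : ℝ) := by simp
    have hRre : ∀ g : G, 2 * S χ - T.card * (n χ : ℝ) ≤ (R g χ).re := fun g => by
      calc 2 * S χ - T.card * (n χ : ℝ)
            = ∑ t ∈ T, (2 * ((χ : G → ℂ) t).re - (n χ : ℝ)) := by
              rw [Finset.sum_sub_distrib, ← Finset.mul_sum]; simp [hS]
        _ ≤ ∑ t ∈ T, ((χ : G → ℂ) (t * (k g * t * (k g)⁻¹))).re := by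
              refine Finset.sum_le_sum fun t ht => ?_
              have h := Values.re_mul_ge (irr_isCharacter χ) (hE t (hTE ht))
                (b := k g * t * (k g)⁻¹) (by
                  rw [show k g * t * (k g)⁻¹ * (k g * t * (k g)⁻¹) = k g * (t * t) * (k g)⁻¹ by
                    group, hE t (hTE ht)]
                  group)
              rw [irr_isClassFunction χ t (k g), hn'] at h
              linarith
        _ = (R g χ).re := by simp [hR]
    have h := congrArg Complex.re (hid χ hχ)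
    simp only [Complex.add_re, Complex.re_sum, ← Complex.ofReal_natCast, ← Complex.ofReal_mul,
      ← Complex.ofReal_div, ← Complex.ofReal_one, ← Complex.ofReal_sub, Complex.ofReal_re] at h
    have h' : (Nat.card G : ℝ) * (2 * S χ - T.card * (n χ : ℝ)) ≤ ∑ g : G, (R g χ).re := by
      calc (Nat.card G : ℝ) * (2 * S χ - T.card * (n χ : ℝ))
            = ∑ _g : G, (2 * S χ - T.card * (n χ : ℝ)) := by
              simp [Nat.card_eq_fintype_card, mul_sub]
        _ ≤ _ := Finset.sum_le_sum fun g _ => hRre g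
    rw [div_eq_iff hnpos.ne'] at h
    by_contra hgt
    push Not at hgt
    have h4 := mul_le_mul_of_nonneg_right h' hnpos.le
    have h5 : (0 : ℝ) < (Nat.card G : ℝ) * ((S χ - n χ) * (T.card * (n χ : ℝ) - S χ)) :=
      mul_pos hGpos (mul_pos (by linarith) (by linarith))
    nlinarith
  -- orthogonality
  have hRorth : ∀ g : G, ∑ χ ∈ B, (S χ : ℂ) * R g χ = 0 := by
    intro g
    simp only [← hSC, hR, Finset.mul_sum, Finset.sum_mul]
    rw [Finset.sum_comm]
    refine Finset.sum_eq_zero fun t ht => ?_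
    rw [Finset.sum_comm]
    refine Finset.sum_eq_zero fun t' ht' => ?_
    have hmem : t * (k g * t * (k g)⁻¹) ∈ K g := by
      rw [show t * (k g * t * (k g)⁻¹) = t * k g * t * (k g)⁻¹ by group]
      refine mul_mem ?_ (inv_mem (hkK g))
      have := hEK g t (hTE ht) _ (hkK g)
      rwa [inv_eq_of_mul_eq_one_right (hE t (hTE ht))] at this
    have hodd : ¬ 2 ∣ orderOf (t * (k g * t * (k g)⁻¹)) := by
      rw [← even_iff_two_dvd, Nat.not_even_iff_odd]
      exact (hK g).of_dvd_nat ((K g).orderOf_dvd_natCard hmem)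
    have h := sum_block_reg_sing hM (intEl_blockIdem hM (isPBlock_principal M G)) hodd
      (y := t') (by rw [hord ht'])
    rw [ZStar.Principal.finsum_mem_eq_sum_filter] at h
    rw [← h]
    refine Finset.sum_congr rfl fun χ _ => ?_
    rw [hreal χ ht', Complex.conj_ofReal]
    ring
  have hmain : ∑ χ ∈ B, S χ ^ 3 / (n χ : ℝ) = ((T.card : ℝ) - 1) * ∑ χ ∈ B, S χ ^ 2 := by
    have h : ∑ χ ∈ B, (S χ : ℂ) * ((Nat.card G : ℂ) * ((S χ : ℂ) * (S χ : ℂ)) / (n χ : ℂ)) =
        (Nat.card G : ℂ) * (((T.card : ℂ) - 1) * ∑ χ ∈ B, (S χ : ℂ) ^ 2) := by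
      rw [Finset.sum_congr rfl fun χ hχ => congrArg ((S χ : ℂ) * ·) (hid χ hχ)]
      simp only [mul_add, Finset.sum_add_distrib]
      have h0 : ∑ χ ∈ B, (S χ : ℂ) * ∑ g : G, R g χ = 0 := by
        simp only [Finset.mul_sum]
        rw [Finset.sum_comm]
        exact Finset.sum_eq_zero fun g _ => hRorth g
      rw [h0, add_zero, Finset.mul_sum, Finset.mul_sum]
      exact Finset.sum_congr rfl fun χ _ => by ring
    have h' : (Nat.card G : ℝ) * ∑ χ ∈ B, S χ ^ 3 / (n χ : ℝ) =
        (Nat.card G : ℝ) * (((T.card : ℝ) - 1) * ∑ χ ∈ B, S χ ^ 2) := by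
      apply Complex.ofReal_injective
      push_cast
      rw [← h, Finset.mul_sum]
      exact Finset.sum_congr rfl fun χ _ => by ring
    exact mul_left_cancel₀ hGpos.ne' h'
  -- the principal character
  have htriv : trivIrr G ∈ B := Finset.mem_filter.2 ⟨Finset.mem_univ _, trivIrr_mem_principal hM⟩
  have hS1 : S (trivIrr G) = T.card := by simp [hS]
  have hn1 : (n (trivIrr G) : ℝ) = 1 := by
    have := hn (trivIrr G)
    simp only [trivIrr_coe] at this
    exact_mod_cast this.symm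
  have hrest : ∑ χ ∈ B.erase (trivIrr G), S χ ^ 3 / (n χ : ℝ) ≤
      ∑ χ ∈ B.erase (trivIrr G), S χ ^ 2 := Finset.sum_le_sum fun χ hχ => by
    have hpos : (0 : ℝ) < n χ := by exact_mod_cast hn0 χ
    rw [div_le_iff₀ hpos]
    nlinarith [hbound χ (Finset.mem_of_mem_erase hχ) (Finset.ne_of_mem_erase hχ), sq_nonneg (S χ)]
  -- the lower bound
  have hlow : 2 * (T.card : ℝ) * Nat.card E ≤ ∑ χ ∈ B, S χ ^ 2 := by
    have hexp : ∑ χ ∈ B, S χ ^ 2 =
        ∑ t ∈ T, ∑ t' ∈ T, ∑ χ ∈ B, ((χ : G → ℂ) t).re * ((χ : G → ℂ) t').re := by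
      simp only [hS, pow_two, Finset.sum_mul_sum]
      rw [Finset.sum_comm]
      exact Finset.sum_congr rfl fun t _ => Finset.sum_comm
    have hdiag : ∀ t ∈ T, ∀ t' ∈ T, IsConj t t' →
        (Nat.card E : ℝ) ≤ ∑ χ ∈ B, ((χ : G → ℂ) t).re * ((χ : G → ℂ) t').re := by
      intro t ht t' ht' hc
      refine (card_le_sum_sq hM E ?_ (hord ht) fun e he => ?_).trans (le_of_eq ?_)
      · exact fun e => ⟨1, Subtype.ext (by simpa [pow_two] using hE e e.2)⟩
      · show t * e = e * t
        have hti := inv_eq_of_mul_eq_one_right (hE t (hTE ht))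
        have hei := inv_eq_of_mul_eq_one_right (hE e he)
        have hp := inv_eq_of_mul_eq_one_right (hE _ (mul_mem (hTE ht) he))
        rw [mul_inv_rev, hti, hei] at hp
        exact hp.symm
      · refine Finset.sum_congr rfl fun χ _ => ?_
        obtain ⟨a, ha⟩ := isConj_iff.1 hc
        rw [← ha, irr_isClassFunction χ t a, hreal χ ht, Complex.norm_real, Real.norm_eq_abs,
          sq_abs, Complex.ofReal_re, pow_two]
    have hzero : ∀ t ∈ T, ∀ t' ∈ T, ¬ IsConj t t' →
        ∑ χ ∈ B, ((χ : G → ℂ) t).re * ((χ : G → ℂ) t').re = 0 := by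
      intro t ht t' ht' hc
      have h := sum_block_mul_conj_eq_zero hM (intEl_blockIdem hM (isPBlock_principal M G))
        (g := t) (h := t') (x := t) (z := t')
        ⟨1, mul_one _, Commute.one_right _, ⟨1, by rw [hord ht, pow_one]⟩, by simp⟩
        ⟨1, mul_one _, Commute.one_right _, ⟨1, by rw [hord ht', pow_one]⟩, by simp⟩ hc
      rw [ZStar.Principal.finsum_mem_eq_sum_filter] at h
      apply Complex.ofReal_injective
      push_cast
      rw [← h]
      exact Finset.sum_congr rfl fun χ _ => by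
        rw [hreal χ ht', Complex.conj_ofReal, Complex.ofReal_re, ← hreal χ ht]
    rw [hexp]
    calc 2 * (T.card : ℝ) * Nat.card E = ∑ _t ∈ T, 2 * (Nat.card E : ℝ) := by
          simp; ring
      _ ≤ _ := Finset.sum_le_sum fun t ht => by
          obtain ⟨g, hgE, hgne⟩ := hmove t (hTE ht) (hmT.1 ht).2
          have hgT : g * t * g⁻¹ ∈ T := hmT.2 ⟨hgE, fun e => (hmT.1 ht).2 (conj_eq_one_iff.1 e)⟩
          have hnonneg : ∀ t' ∈ T,
              0 ≤ ∑ χ ∈ B, ((χ : G → ℂ) t).re * ((χ : G → ℂ) t').re := fun t' ht' => by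
            by_cases hc : IsConj t t'
            · exact (Nat.cast_nonneg _).trans (hdiag t ht t' ht' hc)
            · exact (hzero t ht t' ht' hc).ge
          rw [← Finset.add_sum_erase _ _ ht,
            ← Finset.add_sum_erase _ _ (Finset.mem_erase.2 ⟨hgne, hgT⟩)]
          have := Finset.sum_nonneg (s := (T.erase t).erase (g * t * g⁻¹))
            fun t' ht' => hnonneg t' (Finset.mem_of_mem_erase (Finset.mem_of_mem_erase ht'))
          have := hdiag t ht t ht (IsConj.refl t)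
          have := hdiag t ht _ hgT (isConj_iff.2 ⟨g, rfl⟩)
          linarith
  rw [← Finset.add_sum_erase _ _ htriv, ← Finset.add_sum_erase _ _ htriv, hS1, hn1] at hmain
  rw [← Finset.add_sum_erase _ _ htriv, hS1] at hlow
  have hcE : (Nat.card E : ℝ) = (T.card : ℝ) + 1 := by exact_mod_cast hcardT.symm
  rw [hcE] at hlow
  have h3 : (3 : ℝ) ≤ T.card := by exact_mod_cast hTcard
  set X := ∑ χ ∈ B.erase (trivIrr G), S χ ^ 2 with hX
  nlinarith

end Cfsg.Agent.ExtremelyClosed.BlockSum
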