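import Mathlib
import Cfsg.Prelude.Def_SubgroupEmbedding
import Cfsg.Prelude.Def_Local

/-!
# The odd twisting subgroups of an abelian extremely closed 2-subgroup

For an abelian extremely closed 2-subgroup `H`, the group generated by `H` and a conjugate of it
has `H` as a self-normalising Sylow 2-subgroup, so a normal complement `K` of odd order, and the
conjugate is `k H k⁻¹` with `k ∈ K`.
-/

set_option autoImplicit false
set_option linter.style.haveILetI false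
set_option linter.unusedSectionVars false

namespace Cfsg.Agent.ExtremelyClosed.Pair

universe u

variable {G : Type u} [Group G] [Finite G]

/-- The element `g` twists `H` by an element `k` of the odd subgroup `K`. -/
structure IsTwist (H : Subgroup G) (g k : G) (K : Subgroup G) : Prop where
  odd : Odd (Nat.card K)
  inv : ∀ h ∈ H, ∀ x ∈ K, h * x * h⁻¹ ∈ K
  mem : k ∈ K
  norm : k⁻¹ * g ∈ Subgroup.normalizer (H : Set G)
  disj : ∀ x ∈ K, x ∈ Subgroup.normalizer (H : Set G) → x = 1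
  le : K ≤ H ⊔ H.map (MulAut.conj g).toMonoidHom
  decomp : ∀ x ∈ H ⊔ H.map (MulAut.conj g).toMonoidHom, ∃ a ∈ K, ∃ h ∈ H, x = a * h

theorem mem_conj_iff {H : Subgroup G} {g x : G} :
    x ∈ H.map (MulAut.conj g).toMonoidHom ↔ g⁻¹ * x * g ∈ H := by
  rw [Subgroup.mem_map_equiv, MulAut.conj_symm_apply]

theorem mem_normalizer_of_le {H : Subgroup G} {a : G}
    (h : ∀ x ∈ H, a * x * a⁻¹ ∈ H) : a ∈ Subgroup.normalizer (H : Set G) := by
  have hle : H.map (MulAut.conj a).toMonoidHom ≤ H := by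
    rintro _ ⟨x, hx, rfl⟩
    exact h x hx
  have heq := Subgroup.eq_of_le_of_card_ge hle
    (Subgroup.card_map_of_injective (MulAut.conj a).injective).ge
  refine Subgroup.mem_normalizer_iff.2 fun x => ⟨h x, fun hx => ?_⟩
  have hx' : a * x * a⁻¹ ∈ H.map (MulAut.conj a).toMonoidHom := by rw [heq]; exact hx
  rw [mem_conj_iff] at hx'
  simpa [mul_assoc] using hx'

theorem eq_one_of_odd_pow {x : G} (hx : Odd (orderOf x)) {a : ℕ} (h : x ^ 2 ^ a = 1) : x = 1 := by
  rw [← orderOf_eq_one_iff]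
  obtain ⟨j, -, hj⟩ := (Nat.dvd_prime_pow Nat.prime_two).1 (orderOf_dvd_of_pow_eq_one h)
  cases j with
  | zero => simpa using hj
  | succ j => exact absurd hx (by rw [hj]; simp [parity_simps])

theorem mem_of_odd_pow {S : Subgroup G} {x : G} (hx : Odd (orderOf x)) {a : ℕ}
    (h : x ^ 2 ^ a ∈ S) : x ∈ S := by
  obtain ⟨b, hb⟩ := exists_pow_eq_self_of_coprime (x := x) (n := 2 ^ a)
    (Nat.Coprime.pow_left a (Nat.coprime_two_left.2 hx))
  exact hb ▸ pow_mem h b

/-- An element of odd order in `N ⊔ H`, for normal `N` and a 2-subgroup `H`, lies in `N`. -/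
theorem mem_of_odd_of_mem_sup {N H : Subgroup G} [N.Normal] (hH : IsPGroup 2 H) {x : G}
    (hx : Odd (orderOf x)) (hmem : x ∈ N ⊔ H) : x ∈ N := by
  obtain ⟨n, hn, h, hh, rfl⟩ := Subgroup.mem_sup_of_normal_left.1 hmem
  obtain ⟨a, ha⟩ := hH ⟨h, hh⟩
  have ha' : h ^ 2 ^ a = 1 := congrArg Subtype.val ha
  refine mem_of_odd_pow hx (a := a) ((QuotientGroup.eq_one_iff _).1 ?_)
  rw [QuotientGroup.mk_pow, QuotientGroup.mk_mul, (QuotientGroup.eq_one_iff n).2 hn, one_mul,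
    ← QuotientGroup.mk_pow, ha', QuotientGroup.mk_one]

theorem exists_twist (H : Subgroup G) (hp : IsPGroup 2 H) (hab : IsMulCommutative H)
    (hcl : Cfsg.IsExtremelyClosed H) (g : G) : ∃ (k : G) (K : Subgroup G), IsTwist H g k K := by
  haveI : Fact (Nat.Prime 2) := ⟨Nat.prime_two⟩
  set M := H ⊔ H.map (MulAut.conj g).toMonoidHom with hM
  have hHM : H ≤ M := le_sup_left
  have hself : ∀ x ∈ M, x ∈ Subgroup.normalizer (H : Set G) → x ∈ H := fun x hx hn =>
    (hcl g).le ⟨hx, hn⟩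
  set H' := H.subgroupOf M with hH'
  have hH'p : IsPGroup 2 H' := hp.of_equiv (Subgroup.subgroupOfEquivOfLe hHM).symm
  obtain ⟨P, hHP⟩ := hH'p.exists_le_sylow
  have hPH : (P : Subgroup M) = H' := by
    refine le_antisymm ?_ hHP
    by_contra hle
    haveI : Group.IsNilpotent (P : Subgroup M) := P.2.isNilpotent
    have hlt : H'.subgroupOf (P : Subgroup M) < ⊤ :=
      lt_top_iff_ne_top.2 fun h => hle (Subgroup.subgroupOf_eq_top.1 h)
    obtain ⟨x, hxn, hx⟩ := SetLike.exists_of_lt (Group.normalizerCondition_of_isNilpotent _ hlt)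
    refine hx (show (x : M) ∈ H' from hself _ (x : M).2 (mem_normalizer_of_le fun h hh => ?_))
    exact (Subgroup.mem_normalizer_iff.1 hxn ⟨⟨h, hHM hh⟩, hHP hh⟩).1 hh
  have hmemP : ∀ x : M, x ∈ (P : Subgroup M) ↔ (x : G) ∈ H := fun x => by
    rw [hPH]; exact Subgroup.mem_subgroupOf
  have hPc : Subgroup.normalizer ((P : Subgroup M) : Set M) ≤
      Subgroup.centralizer ((P : Subgroup M) : Set M) := by
    intro x hx
    have hxH : (x : G) ∈ H := hself _ x.2 (mem_normalizer_of_le fun h hh =>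
      (hmemP _).1 ((Subgroup.mem_normalizer_iff.1 hx ⟨h, hHM hh⟩).1 ((hmemP _).2 hh)))
    refine Subgroup.mem_centralizer_iff.2 fun y hy => Subtype.ext ?_
    show (y : G) * (x : G) = (x : G) * (y : G)
    exact congrArg Subtype.val (hab.is_comm.comm (⟨y, (hmemP y).1 hy⟩ : H) ⟨x, hxH⟩)
  have hc := MonoidHom.ker_transferSylow_isComplement' P hPc
  set K₀ := (MonoidHom.transferSylow P hPc).ker with hK₀
  set K := K₀.map M.subtype with hK
  have hdec : ∀ x : M, ∃ a ∈ K₀, ∃ b ∈ (P : Subgroup M), x = a * b := fun x => by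
    obtain ⟨⟨a, b⟩, hab'⟩ := hc.2 x
    exact ⟨a, a.2, b, b.2, hab'.symm⟩
  -- the conjugate of `H`
  set T := (H.map (MulAut.conj g).toMonoidHom).subgroupOf M with hT
  have hTp : IsPGroup 2 T :=
    (hp.map _).of_equiv (Subgroup.subgroupOfEquivOfLe (le_sup_right (a := H))).symm
  obtain ⟨Q, hTQ⟩ := hTp.exists_le_sylow
  obtain ⟨m, hm⟩ := MulAction.exists_smul_eq M P Q
  obtain ⟨a, ha, b, hb, rfl⟩ := hdec m
  refine ⟨a, K, ?_, ?_, ⟨a, ha, rfl⟩, ?_, ?_, ?_, ?_⟩
  · rw [hK, Subgroup.card_map_of_injective M.subtype_injective, ← hc.index_eq_card,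
      ← Nat.not_even_iff_odd, even_iff_two_dvd]
    exact P.not_dvd_index
  · rintro h hh x ⟨y, hy, rfl⟩
    have hn : K₀.Normal := MonoidHom.normal_ker _
    refine ⟨_, hn.conj_mem y hy ⟨h, hHM hh⟩, ?_⟩
    simp only [Subgroup.coe_subtype, Subgroup.coe_mul, Subgroup.coe_inv]
  · refine mem_normalizer_of_le fun h hh => ?_
    have hgh : g * h * g⁻¹ ∈ M := Subgroup.mem_sup_right ⟨h, hh, rfl⟩
    have hQ : (⟨g * h * g⁻¹, hgh⟩ : M) ∈ (Q : Subgroup M) := hTQ ⟨h, hh, rfl⟩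
    rw [← hm] at hQ
    have h2 := (hmemP _).1 (Subgroup.mem_pointwise_smul_iff_inv_smul_mem.1 hQ)
    simp only [MulAut.inv_def, MulAut.smul_def, MulAut.conj_symm_apply, Subgroup.coe_mul,
      Subgroup.coe_inv, mul_inv_rev] at h2
    have hbH : (b : G) ∈ H := (hmemP b).1 hb
    convert mul_mem (mul_mem hbH h2) (inv_mem hbH) using 1
    group
  · rintro _ ⟨y, hy, rfl⟩ hn
    have hyP : y ∈ (P : Subgroup M) := (hmemP y).2 (hself _ y.2 hn)
    rw [Subgroup.disjoint_def.1 hc.disjoint hy hyP]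
    rfl
  · exact Subgroup.map_subtype_le _
  · intro x hx
    obtain ⟨a', ha', b', hb', he⟩ := hdec ⟨x, hx⟩
    exact ⟨a', ⟨a', ha', rfl⟩, b', (hmemP b').1 hb', congrArg Subtype.val he⟩

/-- An element of a twisting subgroup that normalises `H` modulo a normal subgroup `N` lies in
`N`. -/
theorem mem_of_conj_le {H K N : Subgroup G} [N.Normal] (hp : IsPGroup 2 H)
    (hK : Odd (Nat.card K)) (hinv : ∀ h ∈ H, ∀ x ∈ K, h * x * h⁻¹ ∈ K)
    (hdisj : ∀ x ∈ K, x ∈ Subgroup.normalizer (H : Set G) → x = 1) {s : G} (hs : s ∈ K)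
    (hsH : ∀ h ∈ H, s * h * s⁻¹ ∈ N ⊔ H) : s ∈ N := by
  haveI : Fact (Nat.Prime 2) := ⟨Nat.prime_two⟩
  have hodd : ∀ x ∈ K, Odd (orderOf x) := fun x hx => hK.of_dvd_nat (K.orderOf_dvd_natCard hx)
  set X := K ⊓ N with hX
  have hHX : H ≤ Subgroup.normalizer (X : Set G) := fun h hh => mem_normalizer_of_le fun x hx =>
    ⟨hinv h hh x hx.1, (inferInstance : N.Normal).conj_mem x hx.2 h⟩
  set R := X ⊔ H with hR
  have hHR : H ≤ R := le_sup_right
  set H' := H.subgroupOf R with hH'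
  have hH'p : IsPGroup 2 H' := hp.of_equiv (Subgroup.subgroupOfEquivOfLe hHR).symm
  obtain ⟨P, hHP⟩ := hH'p.exists_le_sylow
  have hdec : ∀ x ∈ R, ∃ a ∈ X, ∃ b ∈ H, x = a * b := by
    intro x hx
    have hx' : x ∈ ((X ⊔ H : Subgroup G) : Set G) := hx
    rw [Subgroup.coe_mul_of_right_le_normalizer_left X H hHX] at hx'
    obtain ⟨a, ha, b, hb, rfl⟩ := Set.mem_mul.1 hx'
    exact ⟨a, ha, b, hb, rfl⟩
  have hPH : ∀ x : R, x ∈ (P : Subgroup R) → (x : G) ∈ H := by
    intro x hx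
    obtain ⟨a, ha, b, hb, he⟩ := hdec _ x.2
    have hbP : (⟨b, hHR hb⟩ : R) ∈ (P : Subgroup R) := hHP hb
    have haP : x * (⟨b, hHR hb⟩ : R)⁻¹ ∈ (P : Subgroup R) := mul_mem hx (inv_mem hbP)
    obtain ⟨i, hi⟩ := P.2 ⟨_, haP⟩
    have hval : ((x * (⟨b, hHR hb⟩ : R)⁻¹ : R) : G) = a := by simp [he]
    have hi' : a ^ 2 ^ i = 1 := by
      rw [← hval]; simpa using congrArg (fun z : (P : Subgroup R) => ((z : R) : G)) hi
    rw [he, eq_one_of_odd_pow (hodd a ha.1) hi', one_mul]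
    exact hb
  have hconj : ∀ h ∈ H, s * h * s⁻¹ ∈ R := by
    intro h hh
    have hq : s * h * s⁻¹ * h⁻¹ ∈ X := by
      have h1 : s * h * s⁻¹ * h⁻¹ ∈ K := by
        rw [show s * h * s⁻¹ * h⁻¹ = s * (h * s⁻¹ * h⁻¹) by group]
        exact mul_mem hs (hinv h hh _ (inv_mem hs))
      exact ⟨h1, mem_of_odd_of_mem_sup hp (hodd _ h1)
        (mul_mem (hsH h hh) (Subgroup.mem_sup_right (inv_mem hh)))⟩
    rw [show s * h * s⁻¹ = s * h * s⁻¹ * h⁻¹ * h by group]
    exact mul_mem (Subgroup.mem_sup_left hq) (Subgroup.mem_sup_right hh)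
  set T := (H.map (MulAut.conj s).toMonoidHom).subgroupOf R with hT
  have hTle : H.map (MulAut.conj s).toMonoidHom ≤ R := by
    rintro _ ⟨h, hh, rfl⟩; exact hconj h hh
  have hTp : IsPGroup 2 T := (hp.map _).of_equiv (Subgroup.subgroupOfEquivOfLe hTle).symm
  obtain ⟨Q, hTQ⟩ := hTp.exists_le_sylow
  obtain ⟨r, hr⟩ := MulAction.exists_smul_eq R P Q
  obtain ⟨a, ha, b, hb, he⟩ := hdec _ r.2
  have key : a⁻¹ * s ∈ Subgroup.normalizer (H : Set G) := by
    refine mem_normalizer_of_le fun h hh => ?_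
    have hQ : (⟨s * h * s⁻¹, hconj h hh⟩ : R) ∈ (Q : Subgroup R) := hTQ ⟨h, hh, rfl⟩
    rw [← hr] at hQ
    have h2 := hPH _ (Subgroup.mem_pointwise_smul_iff_inv_smul_mem.1 hQ)
    simp only [MulAut.inv_def, MulAut.smul_def, MulAut.conj_symm_apply, Subgroup.coe_mul,
      Subgroup.coe_inv, he, mul_inv_rev] at h2
    convert mul_mem (mul_mem hb h2) (inv_mem hb) using 1
    group
  rw [show s = a from (inv_mul_eq_one.1 (hdisj _ (mul_mem (inv_mem ha.1) hs) key)).symm]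
  exact ha.2

end Cfsg.Agent.ExtremelyClosed.Pair
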