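import Mathlib
import Cfsg.Prelude.Def_SubgroupEmbedding
import Cfsg.Agent.InvChar.Core
import Cfsg.Agent.Lib.Characters.Kernel
import Cfsg.Agent.Lib.ZStar.Main
import Cfsg.Agent.Lib.ExtremelyClosed.Pair
import Cfsg.Agent.Lib.ExtremelyClosed.BlockSum

/-!
# Abelian extremely closed 2-subgroups are normal modulo the odd core

By induction on the group order.
-/

set_option autoImplicit false
set_option linter.style.haveILetI false
set_option linter.unusedSectionVars false

namespace Cfsg.Agent.ExtremelyClosed.Main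

open Cfsg.Agent.ExtremelyClosed.Pair Cfsg.Agent.Characters

universe u

/-- The conclusion for all groups of order less than `n`. -/
def Smaller (n : ℕ) : Prop :=
  ∀ (G : Type u) [Group G] [Finite G], Nat.card G < n → ∀ H : Subgroup G, IsPGroup 2 H →
    IsMulCommutative H → Cfsg.IsExtremelyClosed H →
      Subgroup.normalizer (H : Set G) ⊔ Cfsg.oddCore G = ⊤

variable {G : Type u} [Group G] [Finite G] {H : Subgroup G}

theorem isMulCommutative_map {G' : Type u} [Group G'] (f : G →* G') (hab : IsMulCommutative H) :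
    IsMulCommutative (H.map f) := by
  refine ⟨⟨fun a b => Subtype.ext ?_⟩⟩
  obtain ⟨x, hx, hxa⟩ := a.2
  obtain ⟨y, hy, hyb⟩ := b.2
  show (a : G') * b = b * a
  rw [← hxa, ← hyb, ← map_mul, ← map_mul]
  exact congrArg f (congrArg Subtype.val (hab.is_comm.comm (⟨x, hx⟩ : H) ⟨y, hy⟩))

theorem subgroupOf_isMulCommutative (C : Subgroup G) (hab : IsMulCommutative H) :
    IsMulCommutative (H.subgroupOf C) :=
  ⟨⟨fun a b => Subtype.ext (Subtype.ext
    (congrArg Subtype.val (hab.is_comm.comm (⟨_, a.2⟩ : H) ⟨_, b.2⟩) :))⟩⟩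

theorem subgroupOf_closed {C : Subgroup G} (hHC : H ≤ C) (hcl : Cfsg.IsExtremelyClosed H) :
    Cfsg.IsExtremelyClosed (H.subgroupOf C) := by
  intro c
  refine le_antisymm ?_ (le_inf le_sup_left Subgroup.le_normalizer)
  rintro x ⟨hx, hn⟩
  have h1 : (x : G) ∈ H ⊔ H.map (MulAut.conj (c : G)).toMonoidHom := by
    have hle : (H.subgroupOf C ⊔ (H.subgroupOf C).map (MulAut.conj c).toMonoidHom) ≤
        (H ⊔ H.map (MulAut.conj (c : G)).toMonoidHom).subgroupOf C := by
      refine sup_le (fun y hy => Subgroup.mem_sup_left hy) ?_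
      rintro _ ⟨y, hy, rfl⟩
      exact Subgroup.mem_sup_right ⟨y, hy, rfl⟩
    exact hle hx
  have h2 : (x : G) ∈ Subgroup.normalizer (H : Set G) := mem_normalizer_of_le fun h hh =>
    (Subgroup.mem_normalizer_iff.1 hn ⟨h, hHC hh⟩).1 hh
  exact (hcl c).le ⟨h1, h2⟩

theorem of_subgroup (ind : Smaller.{u} (Nat.card G)) {C : Subgroup G} (hC : C ≠ ⊤) (hHC : H ≤ C)
    (hp : IsPGroup 2 H) (hab : IsMulCommutative H) (hcl : Cfsg.IsExtremelyClosed H) :
    Subgroup.normalizer ((H.subgroupOf C : Subgroup C) : Set C) ⊔ Cfsg.oddCore C = ⊤ :=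
  ind C (lt_of_le_of_ne (Subgroup.card_le_card_group C) fun h =>
      hC (Subgroup.eq_top_of_card_eq C h)) _
    (hp.of_equiv (Subgroup.subgroupOfEquivOfLe hHC).symm) (subgroupOf_isMulCommutative C hab)
    (subgroupOf_closed hHC hcl)

/-- The odd part of a twist at a centraliser. -/
theorem mem_oddCore_centralizer (ind : Smaller.{u} (Nat.card G)) (hp : IsPGroup 2 H)
    (hab : IsMulCommutative H) (hcl : Cfsg.IsExtremelyClosed H) {u : G} (hu : u ∈ H)
    (hC : Subgroup.centralizer ({u} : Set G) ≠ ⊤) {g k : G} {K : Subgroup G}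
    (hK : IsTwist H g k K) {s : G} (hs : s ∈ K) (hsC : s ∈ Subgroup.centralizer ({u} : Set G)) :
    (⟨s, hsC⟩ : Subgroup.centralizer ({u} : Set G)) ∈
      Cfsg.oddCore (Subgroup.centralizer ({u} : Set G)) := by
  set C := Subgroup.centralizer ({u} : Set G) with hCdef
  have hHC : H ≤ C := fun h hh => Subgroup.mem_centralizer_singleton_iff.2
    (congrArg Subtype.val (hab.is_comm.comm (⟨h, hh⟩ : H) ⟨u, hu⟩))
  have hN := of_subgroup ind hC hHC hp hab hcl
  refine mem_of_conj_le (H := H.subgroupOf C) (K := K.subgroupOf C) (N := Cfsg.oddCore C)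
    (hp.of_equiv (Subgroup.subgroupOfEquivOfLe hHC).symm) ?_
    (fun h hh x hx => hK.inv _ hh _ hx) (fun x hx hn => Subtype.ext (hK.disj _ hx ?_)) hs ?_
  · exact hK.odd.of_dvd_nat (by
      rw [← Subgroup.card_map_of_injective C.subtype_injective, Subgroup.subgroupOf_map_subtype]
      exact Subgroup.card_dvd_of_le inf_le_left)
  · exact mem_normalizer_of_le fun h hh => (Subgroup.mem_normalizer_iff.1 hn ⟨h, hHC hh⟩).1 hh
  · intro h hh
    have hmem : (⟨s, hsC⟩ : C) ∈
        Subgroup.normalizer ((H.subgroupOf C : Subgroup C) : Set C) ⊔ Cfsg.oddCore C := by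
      rw [hN]; exact Subgroup.mem_top _
    obtain ⟨m, hm, o, ho, he⟩ := Subgroup.mem_sup_of_normal_right.1 hmem
    rw [← he, show m * o * h * (m * o)⁻¹ =
      m * (o * (h * o⁻¹ * h⁻¹)) * m⁻¹ * (m * h * m⁻¹) by group]
    exact mul_mem (Subgroup.mem_sup_left ((inferInstance : (Cfsg.oddCore C).Normal).conj_mem _
        (mul_mem ho ((inferInstance : (Cfsg.oddCore C).Normal).conj_mem _ (inv_mem ho) h)) m))
      (Subgroup.mem_sup_right ((Subgroup.mem_normalizer_iff.1 hm h).1 hh))

/-- The case of a nontrivial odd core. -/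
theorem of_oddCore_ne_bot (ind : Smaller.{u} (Nat.card G)) (hp : IsPGroup 2 H)
    (hab : IsMulCommutative H) (hcl : Cfsg.IsExtremelyClosed H) (hO : Cfsg.oddCore G ≠ ⊥) :
    Subgroup.normalizer (H : Set G) ⊔ Cfsg.oddCore G = ⊤ := by
  set O := Cfsg.oddCore G with hOdef
  set π := QuotientGroup.mk' O with hπ
  have hlt : Nat.card (G ⧸ O) < Nat.card G := by
    rw [O.card_eq_card_quotient_mul_card_subgroup]
    exact lt_mul_of_one_lt_right Nat.card_pos (Subgroup.one_lt_card_iff_ne_bot _ |>.2 hO)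
  have hker : ∀ x, π x ∈ H.map π → x ∈ O ⊔ H := fun x hx => by
    have : x ∈ (H.map π).comap π := hx
    rwa [Subgroup.comap_map_eq, hπ, QuotientGroup.ker_mk', sup_comm] at this
  have hcl' : Cfsg.IsExtremelyClosed (H.map π) := by
    intro gbar
    obtain ⟨g, rfl⟩ := QuotientGroup.mk'_surjective O gbar
    refine le_antisymm ?_ (le_inf le_sup_left Subgroup.le_normalizer)
    rintro _ ⟨hx, hn⟩
    have heq : H.map π ⊔ (H.map π).map (MulAut.conj (π g)).toMonoidHom =
        (H ⊔ H.map (MulAut.conj g).toMonoidHom).map π := by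
      rw [Subgroup.map_sup, Subgroup.map_map, Subgroup.map_map]
      congr 2
    rw [heq] at hx
    obtain ⟨x, hx, rfl⟩ := hx
    obtain ⟨k, K, hK⟩ := exists_twist H hp hab hcl g
    obtain ⟨a, ha, b, hb, rfl⟩ := hK.decomp x hx
    have haO : a ∈ O := mem_of_conj_le hp hK.odd hK.inv hK.disj ha fun h hh => hker _ (by
      have hb' : π b ∈ Subgroup.normalizer ((H.map π : Subgroup (G ⧸ O)) : Set (G ⧸ O)) :=
        Subgroup.le_normalizer (Subgroup.mem_map_of_mem π hb)
      have ha' : π a ∈ Subgroup.normalizer ((H.map π : Subgroup (G ⧸ O)) : Set (G ⧸ O)) := by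
        rw [show π a = π (a * b) * (π b)⁻¹ by rw [map_mul, mul_inv_cancel_right]]
        exact mul_mem hn (inv_mem hb')
      rw [map_mul, map_mul, map_inv]
      exact (Subgroup.mem_normalizer_iff.1 ha' _).1 (Subgroup.mem_map_of_mem π hh))
    refine ⟨b, hb, ?_⟩
    rw [map_mul, show π a = 1 from (QuotientGroup.eq_one_iff a).2 haO, one_mul]
  have h := ind (G ⧸ O) hlt _ (hp.map π) (isMulCommutative_map π hab) hcl'
  have hbot : Cfsg.oddCore (G ⧸ O) = ⊥ := InvChar.Core.oddCore_quotient_oddCore_eq_bot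
  rw [hbot, sup_bot_eq] at h
  refine (Subgroup.eq_top_iff' _).2 fun g => ?_
  obtain ⟨k, K, hK⟩ := exists_twist H hp hab hcl g
  have hkO : k ∈ O := mem_of_conj_le hp hK.odd hK.inv hK.disj hK.mem fun x hx => hker _ (by
    have hk : π k ∈ Subgroup.normalizer ((H.map π : Subgroup (G ⧸ O)) : Set (G ⧸ O)) := by
      rw [h]; exact Subgroup.mem_top _
    rw [map_mul, map_mul, map_inv]
    exact (Subgroup.mem_normalizer_iff.1 hk _).1 (Subgroup.mem_map_of_mem π hx))
  rw [show g = k * (k⁻¹ * g) by group]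
  exact mul_mem (Subgroup.mem_sup_right hkO) (Subgroup.mem_sup_left hK.norm)

/-- A nontrivial normal subgroup inside `H` makes `H` normal. -/
theorem normal_of_normal_le (ind : Smaller.{u} (Nat.card G)) (hO : Cfsg.oddCore G = ⊥)
    (hp : IsPGroup 2 H) (hab : IsMulCommutative H) (hcl : Cfsg.IsExtremelyClosed H)
    {E : Subgroup G} [E.Normal] (hE : E ≠ ⊥) (hEH : E ≤ H) :
    Subgroup.normalizer (H : Set G) = ⊤ := by
  haveI : Fact (Nat.Prime 2) := ⟨Nat.prime_two⟩
  set π := QuotientGroup.mk' E with hπ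
  have hlt : Nat.card (G ⧸ E) < Nat.card G := by
    rw [E.card_eq_card_quotient_mul_card_subgroup]
    exact lt_mul_of_one_lt_right Nat.card_pos (Subgroup.one_lt_card_iff_ne_bot _ |>.2 hE)
  have hker : ∀ x, π x ∈ H.map π → x ∈ H := fun x hx => by
    have : x ∈ (H.map π).comap π := hx
    rwa [Subgroup.comap_map_eq, hπ, QuotientGroup.ker_mk', sup_eq_left.2 hEH] at this
  have hnorm : ∀ x, π x ∈ Subgroup.normalizer ((H.map π : Subgroup (G ⧸ E)) : Set (G ⧸ E)) →
      x ∈ Subgroup.normalizer (H : Set G) := fun x hx => mem_normalizer_of_le fun h hh =>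
    hker _ (by
      rw [map_mul, map_mul, map_inv]
      exact (Subgroup.mem_normalizer_iff.1 hx _).1 (Subgroup.mem_map_of_mem π hh))
  have hcl' : Cfsg.IsExtremelyClosed (H.map π) := by
    intro gbar
    obtain ⟨g, rfl⟩ := QuotientGroup.mk'_surjective E gbar
    refine le_antisymm ?_ (le_inf le_sup_left Subgroup.le_normalizer)
    rintro _ ⟨hx, hn⟩
    have heq : H.map π ⊔ (H.map π).map (MulAut.conj (π g)).toMonoidHom =
        (H ⊔ H.map (MulAut.conj g).toMonoidHom).map π := by
      rw [Subgroup.map_sup, Subgroup.map_map, Subgroup.map_map]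
      congr 2
    rw [heq] at hx
    obtain ⟨x, hx, rfl⟩ := hx
    exact Subgroup.mem_map_of_mem π ((hcl g).le ⟨hx, hnorm x hn⟩)
  have h := ind (G ⧸ E) hlt _ (hp.map π) (isMulCommutative_map π hab) hcl'
  set R := (Cfsg.oddCore (G ⧸ E)).comap π with hR
  haveI : R.Normal := Subgroup.Normal.comap inferInstance π
  have hRN : R ≤ Subgroup.normalizer (H : Set G) := by
    intro q hq
    obtain ⟨k, K, hK⟩ := exists_twist H hp hab hcl q
    have hoddK : ∀ x ∈ K, Odd (orderOf x) := fun x hx =>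
      hK.odd.of_dvd_nat (K.orderOf_dvd_natCard hx)
    have hMR : H ⊔ H.map (MulAut.conj q).toMonoidHom ≤ R ⊔ H := by
      refine sup_le le_sup_right ?_
      rintro _ ⟨x, hx, rfl⟩
      show q * x * q⁻¹ ∈ R ⊔ H
      rw [show q * x * q⁻¹ = q * (x * q⁻¹ * x⁻¹) * x by group]
      exact mul_mem (Subgroup.mem_sup_left (mul_mem hq
        ((inferInstance : R.Normal).conj_mem _ (inv_mem hq) x))) (Subgroup.mem_sup_right hx)
    have hKR : ∀ x ∈ K, x ∈ R := fun x hx =>
      mem_of_odd_of_mem_sup hp (hoddK x hx) (hMR (hK.le hx))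
    have hKE : ∀ x ∈ K, x ∈ Subgroup.centralizer (E : Set G) := by
      intro x hx
      refine Subgroup.mem_centralizer_iff.2 fun e he => ?_
      have h1 : x * e * x⁻¹ * e⁻¹ ∈ E :=
        mul_mem ((inferInstance : E.Normal).conj_mem e he x) (inv_mem he)
      have h2 : x * e * x⁻¹ * e⁻¹ ∈ K := by
        rw [show x * e * x⁻¹ * e⁻¹ = x * (e * x⁻¹ * e⁻¹) by group]
        exact mul_mem hx (hK.inv e (hEH he) _ (inv_mem hx))
      have h3 := hK.disj _ h2 (Subgroup.le_normalizer (hEH h1))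
      rw [mul_inv_eq_one, mul_inv_eq_iff_eq_mul] at h3
      exact h3.symm
    set D := R ⊓ Subgroup.centralizer (E : Set G) with hD
    haveI : (Subgroup.centralizer (E : Set G)).Normal := inferInstance
    haveI hDn : D.Normal := Subgroup.normal_inf_normal _ _
    have hED : E ≤ D := le_inf (fun e he => by
        show π e ∈ Cfsg.oddCore (G ⧸ E)
        rw [show π e = 1 from (QuotientGroup.eq_one_iff e).2 he]
        exact one_mem _) fun e he => Subgroup.mem_centralizer_iff.2 fun f hf =>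
      congrArg Subtype.val (hab.is_comm.comm (⟨f, hEH hf⟩ : H) ⟨e, hEH he⟩)
    set E' := E.subgroupOf D with hE'
    have hE'p : IsPGroup 2 E' :=
      (hp.to_le hEH).of_equiv (Subgroup.subgroupOfEquivOfLe hED).symm
    obtain ⟨P, hEP⟩ := hE'p.exists_le_sylow
    have hPE : ∀ x : D, x ∈ (P : Subgroup D) → (x : G) ∈ E := by
      intro x hx
      obtain ⟨a, ha⟩ := P.2 ⟨x, hx⟩
      have ha' : (x : G) ^ 2 ^ a = 1 := by
        simpa using congrArg (fun z : (P : Subgroup D) => ((z : D) : G)) ha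
      refine (QuotientGroup.eq_one_iff _).1 (eq_one_of_odd_pow (x := π (x : G)) ?_ (a := a) ?_)
      · exact InvChar.Core.odd_card_oddCore.of_dvd_nat
          (Subgroup.orderOf_dvd_natCard _ (show π (x : G) ∈ Cfsg.oddCore (G ⧸ E) from x.2.1))
      · rw [← map_pow, ha', map_one]
    have hPc : Subgroup.normalizer ((P : Subgroup D) : Set D) ≤
        Subgroup.centralizer ((P : Subgroup D) : Set D) := fun x _ =>
      Subgroup.mem_centralizer_iff.2 fun y hy => Subtype.ext
        (Subgroup.mem_centralizer_iff.1 x.2.2 _ (hPE y hy))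
    have hc := MonoidHom.ker_transferSylow_isComplement' P hPc
    set W := (MonoidHom.transferSylow P hPc).ker with hW
    have hWodd : Odd (Nat.card W) := by
      rw [← hc.index_eq_card, ← Nat.not_even_iff_odd, even_iff_two_dvd]
      exact P.not_dvd_index
    have hWmem : ∀ x : D, Odd (orderOf x) → x ∈ W := fun x hx => by
      rw [hW, MonoidHom.mem_ker]
      obtain ⟨a, ha⟩ := P.2 (MonoidHom.transferSylow P hPc x)
      exact eq_one_of_odd_pow (hx.of_dvd_nat (orderOf_map_dvd _ x)) ha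
    haveI : (W.map D.subtype).Normal := by
      refine ⟨?_⟩
      rintro _ ⟨y, hy, rfl⟩ g
      refine ⟨⟨g * (y : G) * g⁻¹, hDn.conj_mem _ y.2 g⟩, hWmem _ ?_, rfl⟩
      rw [Subgroup.orderOf_mk, show g * (y : G) * g⁻¹ = MulAut.conj g (y : G) from rfl,
        MulEquiv.orderOf_eq, Subgroup.orderOf_coe]
      exact hWodd.of_dvd_nat (W.orderOf_dvd_natCard hy)
    have hWbot := InvChar.Core.le_oddCore (N := W.map D.subtype) inferInstance
      (by rwa [Subgroup.card_map_of_injective D.subtype_injective])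
    rw [hO] at hWbot
    have hkD : k ∈ D := ⟨hKR k hK.mem, hKE k hK.mem⟩
    have hk1 : k = 1 := Subgroup.mem_bot.1 (hWbot ⟨⟨k, hkD⟩, hWmem _ (by
      rw [← Subgroup.orderOf_coe]; exact hoddK k hK.mem), rfl⟩)
    have := hK.norm
    rwa [hk1, inv_one, one_mul] at this
  refine (Subgroup.eq_top_iff' _).2 fun g => ?_
  have hg : π g ∈ Subgroup.normalizer ((H.map π : Subgroup (G ⧸ E)) : Set (G ⧸ E)) ⊔
      Cfsg.oddCore (G ⧸ E) := by rw [h]; exact Subgroup.mem_top _
  obtain ⟨m, hm, o, ho, he⟩ := Subgroup.mem_sup_of_normal_right.1 hg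
  obtain ⟨m', rfl⟩ := QuotientGroup.mk'_surjective E m
  rw [show g = m' * (m'⁻¹ * g) by group]
  exact mul_mem (hnorm _ hm) (hRN (show π (m'⁻¹ * g) ∈ Cfsg.oddCore (G ⧸ E) by
    rw [map_mul, map_inv, ← he, inv_mul_cancel_left]; exact ho))

theorem zpowers_normal_of_mem_center {z : G} (hz : z ∈ Subgroup.center G) :
    (Subgroup.zpowers z).Normal := ⟨fun a ha g => by
  rwa [Subgroup.mem_center_iff.1 (Subgroup.zpowers_le.2 hz ha) g, mul_inv_cancel_right]⟩

/-- The case of a trivial odd core. -/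
theorem normalizer_eq_top (ind : Smaller.{u} (Nat.card G)) (hO : Cfsg.oddCore G = ⊥)
    (hp : IsPGroup 2 H) (hab : IsMulCommutative H) (hcl : Cfsg.IsExtremelyClosed H) :
    Subgroup.normalizer (H : Set G) = ⊤ := by
  haveI : Fact (Nat.Prime 2) := ⟨Nat.prime_two⟩
  by_contra hne
  set N := Subgroup.normalizer (H : Set G) with hN
  have hnoE : ∀ E : Subgroup G, E.Normal → E ≤ H → E = ⊥ := fun E hEn hEH => by
    by_contra hE
    exact hne (normal_of_normal_le ind hO hp hab hcl hE hEH)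
  have hcen : ∀ u ∈ H, u ≠ 1 → u ∉ Subgroup.center G := fun u hu hu1 hc =>
    hu1 (Subgroup.zpowers_eq_bot.1 (hnoE _ (zpowers_normal_of_mem_center hc)
      (Subgroup.zpowers_le.2 hu)))
  have hcomm : ∀ a ∈ H, ∀ b ∈ H, a * b = b * a := fun a ha b hb =>
    congrArg Subtype.val (hab.is_comm.comm (⟨a, ha⟩ : H) ⟨b, hb⟩)
  -- a minimal invariant elementary subgroup
  let Ω : Subgroup G :=
    { carrier := {x | x ∈ H ∧ x * x = 1}
      one_mem' := ⟨one_mem _, one_mul 1⟩
      mul_mem' := fun {a b} ha hb => ⟨mul_mem ha.1 hb.1, by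
        rw [show a * b * (a * b) = a * (b * a) * b by group, hcomm b hb.1 a ha.1,
          show a * (a * b) * b = a * a * (b * b) by group, ha.2, hb.2, one_mul]⟩
      inv_mem' := fun {a} ha => ⟨inv_mem ha.1, by rw [← mul_inv_rev, ha.2, inv_one]⟩ }
  have hHne : H ≠ ⊥ := fun h => hne (by
    rw [hN, h]; exact (Subgroup.eq_top_iff' _).2 fun g => mem_normalizer_of_le fun x hx => by
      rw [Subgroup.mem_bot.1 hx]; simp)
  have hΩ : Ω ≠ ⊥ := by
    obtain ⟨x, hx, hx1⟩ := H.bot_or_exists_ne_one.resolve_left hHne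
    obtain ⟨a, ha⟩ := IsPGroup.iff_orderOf.1 hp ⟨x, hx⟩
    have hdvd : 2 ∣ Nat.card H := by
      refine (dvd_trans ?_ (H.orderOf_dvd_natCard hx))
      rw [← Subgroup.orderOf_coe] at ha
      exact ha ▸ dvd_pow_self 2 fun h0 => hx1 (orderOf_eq_one_iff.1 (by
        simpa [h0] using ha))
    obtain ⟨y, hy⟩ := exists_prime_orderOf_dvd_card' (G := H) 2 hdvd
    rw [← Subgroup.orderOf_coe] at hy
    intro h
    have : (y : G) ∈ Ω := ⟨y.2, by rw [← pow_two, ← hy, pow_orderOf_eq_one]⟩
    rw [h, Subgroup.mem_bot] at this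
    rw [this, orderOf_one] at hy
    norm_num at hy
  set 𝒮 : Set (Subgroup G) :=
    {D | D ≤ H ∧ D ≠ ⊥ ∧ (∀ x ∈ D, x * x = 1) ∧ N ≤ Subgroup.normalizer (D : Set G)} with h𝒮
  have hΩmem : Ω ∈ 𝒮 := ⟨fun x hx => hx.1, hΩ, fun x hx => hx.2, fun n hn =>
    mem_normalizer_of_le fun x hx => ⟨(Subgroup.mem_normalizer_iff.1 hn x).1 hx.1, by
      rw [show n * x * n⁻¹ * (n * x * n⁻¹) = n * (x * x) * n⁻¹ by group, hx.2]; group⟩⟩
  obtain ⟨E, ⟨hEH, hEne, hE2, hEN⟩, hmin⟩ :=
    (Set.toFinite 𝒮).exists_minimal (s := 𝒮) ⟨Ω, hΩmem⟩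
  have hNE : ∀ n ∈ N, ∀ e ∈ E, n * e * n⁻¹ ∈ E := fun n hn e he =>
    (Subgroup.mem_normalizer_iff.1 (hEN hn) e).1 he
  -- fixed involutions generate `E`
  have hfix : ∀ z ∈ E, z ≠ 1 → (∀ n ∈ N, n * z * n⁻¹ = z) → E = Subgroup.zpowers z := by
    intro z hz hz1 hzfix
    have hle : Subgroup.zpowers z ≤ E := Subgroup.zpowers_le.2 hz
    have hmem : Subgroup.zpowers z ∈ 𝒮 := ⟨hle.trans hEH,
      fun h => hz1 (Subgroup.zpowers_eq_bot.1 h), fun x hx => hE2 x (hle hx), fun n hn =>
        mem_normalizer_of_le fun x hx => by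
          obtain ⟨i, rfl⟩ := Subgroup.mem_zpowers_iff.1 hx
          rw [← conj_zpow, hzfix n hn]
          exact zpow_mem (Subgroup.mem_zpowers z) i⟩
    exact le_antisymm (hmin hmem hle) hle
  by_cases hfixed : ∃ z ∈ E, z ≠ 1 ∧ ∀ n ∈ N, n * z * n⁻¹ = z
  · -- an isolated involution
    obtain ⟨z, hz, hz1, hzfix⟩ := hfixed
    have hzo : orderOf z = 2 := orderOf_eq_prime (by rw [pow_two, hE2 z hz]) hz1
    have hiso : Cfsg.IsIsolatedInvolution z := by
      refine ⟨hzo, fun g hg => ?_⟩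
      obtain ⟨k, K, hK⟩ := exists_twist H hp hab hcl g
      have hgk : g * z * g⁻¹ = k * z * k⁻¹ := by
        conv_rhs => rw [← hzfix _ hK.norm]
        group
      rw [hgk] at hg ⊢
      have hsq : (z * (k * z * k⁻¹)) * (z * (k * z * k⁻¹)) = 1 := by
        rw [hg.symm.mul_mul_mul_comm, hE2 z hz, one_mul,
          show k * z * k⁻¹ * (k * z * k⁻¹) = k * (z * z) * k⁻¹ by group, hE2 z hz]
        group
      have hmem : z * (k * z * k⁻¹) ∈ K := by
        rw [show z * (k * z * k⁻¹) = z * k * z * k⁻¹ by group]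
        have := hK.inv z (hEH hz) k hK.mem
        rw [inv_eq_of_mul_eq_one_right (hE2 z hz)] at this
        exact mul_mem this (inv_mem hK.mem)
      have h1 := eq_one_of_odd_pow (a := 1) (hK.odd.of_dvd_nat (K.orderOf_dvd_natCard hmem))
        (by rw [pow_one, pow_two, hsq])
      rw [← inv_eq_of_mul_eq_one_right h1, inv_eq_of_mul_eq_one_right (hE2 z hz)]
    exact hcen z (hEH hz) hz1 (ZStar.Main.mem_center_of_isolated hO hiso)
  push Not at hfixed
  have hcard : 4 ≤ Nat.card E := by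
    obtain ⟨e, he, he1⟩ := E.bot_or_exists_ne_one.resolve_left hEne
    obtain ⟨n, hn, hne'⟩ := hfixed e he he1
    have heo : orderOf e = 2 := orderOf_eq_prime (by rw [pow_two, hE2 e he]) he1
    have h2 : Nat.card (Subgroup.zpowers e) = 2 := by rw [Nat.card_zpowers, heo]
    obtain ⟨a, ha⟩ := IsPGroup.iff_card.1 (hp.to_le hEH)
    rw [ha]
    by_contra hlt
    have ha2 : a < 2 := by
      by_contra h
      exact hlt (by calc 4 = 2 ^ 2 := rfl
                      _ ≤ 2 ^ a := Nat.pow_le_pow_right two_pos (not_lt.1 h))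
    have hle2 : Nat.card E ≤ 2 := by rw [ha]; interval_cases a <;> norm_num
    have heq : Subgroup.zpowers e = E :=
      Subgroup.eq_of_le_of_card_ge (Subgroup.zpowers_le.2 he) (by rw [h2]; exact hle2)
    have hmem := hNE n hn e he
    rw [← heq, Subgroup.mem_zpowers_iff] at hmem
    obtain ⟨i, hi⟩ := hmem
    rcases Int.even_or_odd' i with ⟨j, rfl | rfl⟩
    · rw [zpow_mul, show e ^ (2 : ℤ) = 1 by rw [zpow_two, hE2 e he], one_zpow] at hi
      exact he1 (conj_eq_one_iff.1 hi.symm)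
    · rw [zpow_add, zpow_one, zpow_mul, show e ^ (2 : ℤ) = 1 by rw [zpow_two, hE2 e he],
        one_zpow, one_mul] at hi
      exact hne' hi.symm
  set L := Subgroup.normalClosure (E : Set G) with hL
  have hEL : E ≤ L := Subgroup.le_normalClosure
  have hEK : ∀ (g k : G) (K : Subgroup G), IsTwist H g k K →
      ∀ z, z ∈ E ↔ k⁻¹ * (g * z * g⁻¹) * k ∈ E := by
    intro g k K hK z
    rw [show k⁻¹ * (g * z * g⁻¹) * k = (k⁻¹ * g) * z * (k⁻¹ * g)⁻¹ by group]
    exact Subgroup.mem_normalizer_iff.1 (hEN hK.norm) z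
  by_cases htop : L ⊔ H = ⊤
  · -- characters of `L`
    have hdec : ∀ g : G, ∃ l ∈ L, ∃ h ∈ H, g = l * h := fun g => by
      obtain ⟨l, hl, h, hh, he⟩ :=
        Subgroup.mem_sup_of_normal_left.1 (htop ▸ Subgroup.mem_top g : g ∈ L ⊔ H)
      exact ⟨l, hl, h, hh, he.symm⟩
    obtain ⟨χ, hχ, hker⟩ := BlockSum.exists_char_kernel (E.subgroupOf L)
      (fun e he => Subtype.ext (hE2 _ he))
      (by rwa [Nat.card_congr (Subgroup.subgroupOfEquivOfLe hEL).toEquiv])
      (fun z hz hz1 => by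
        obtain ⟨n, hn, hne'⟩ := hfixed z hz fun h => hz1 (Subtype.ext h)
        obtain ⟨l, hl, h, hh, rfl⟩ := hdec n
        have hzh : h * (z : G) * h⁻¹ = z := by
          rw [hcomm h hh z (hEH hz), mul_inv_cancel_right]
        have he : l * h * (z : G) * (l * h)⁻¹ = l * z * l⁻¹ := by
          conv_rhs => rw [← hzh]
          group
        refine ⟨⟨l, hl⟩, ?_, fun h' => hne' ?_⟩
        · have := hNE (l * h) hn (z : G) hz
          rw [he] at this
          exact this
        · rw [he]; exact congrArg Subtype.val h')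
      (fun g => by
        obtain ⟨k, K, hK⟩ := exists_twist H hp hab hcl g
        have hKL : K ≤ L := fun x hx => mem_of_odd_of_mem_sup hp
          (hK.odd.of_dvd_nat (K.orderOf_dvd_natCard hx)) (htop ▸ Subgroup.mem_top x)
        refine ⟨⟨k, hKL hK.mem⟩, K.subgroupOf L, ?_, fun e he x hx => hK.inv _ (hEH he) _ hx,
          hK.mem, fun z => hEK g k K hK z, ?_⟩
        · rw [Nat.card_congr (Subgroup.subgroupOfEquivOfLe hKL).toEquiv]
          exact hK.odd
        · intro u hu hu1 s hs hsC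
          have hu1' : (u : G) ≠ 1 := fun h => hu1 (Subtype.ext h)
          have hCne : Subgroup.centralizer ({(u : G)} : Set G) ≠ ⊤ := fun h =>
            hcen _ (hEH hu) hu1' (Subgroup.mem_center_iff.2 fun x =>
              Subgroup.mem_centralizer_singleton_iff.1 (h ▸ Subgroup.mem_top x))
          let f : Subgroup.centralizer ({u} : Set L) →* Subgroup.centralizer ({(u : G)} : Set G) :=
            (L.subtype.comp (Subgroup.centralizer ({u} : Set L)).subtype).codRestrict _ fun c =>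
              Subgroup.mem_centralizer_singleton_iff.2
                (congrArg Subtype.val (Subgroup.mem_centralizer_singleton_iff.1 c.2))
          have hf : Function.Injective f := fun a b h => by
            have h' := congrArg Subtype.val h
            exact Subtype.ext (Subtype.ext h')
          set O' := Cfsg.oddCore (Subgroup.centralizer ({(u : G)} : Set G)) with hO'
          refine InvChar.Core.le_oddCore (N := O'.comap f) (Subgroup.Normal.comap inferInstance f)
            ?_ ?_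
          · refine InvChar.Core.odd_card_oddCore.of_dvd_nat
              (?_ : Nat.card (O'.comap f) ∣ Nat.card O')
            rw [← Subgroup.card_map_of_injective hf]
            exact Subgroup.card_dvd_of_le (Subgroup.map_comap_le _ _)
          · exact mem_oddCore_centralizer ind hp hab hcl (hEH hu) hCne hK hs
              (f ⟨s, hsC⟩).2)
    set W := charKernel (χ : ↥L → ℂ) (irr_isCharacter χ) with hW
    haveI : W.Normal := charKernel_normal _
    have hLW : L ≤ W.map L.subtype := by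
      show Subgroup.normalClosure (E : Set G) ≤ _
      rw [Subgroup.normalClosure, Subgroup.closure_le]
      intro x hx
      obtain ⟨e, he, hconj⟩ := Group.mem_conjugatesOfSet_iff.1 hx
      obtain ⟨g, rfl⟩ := isConj_iff.1 hconj
      obtain ⟨l, hl, h, hh, rfl⟩ := hdec g
      refine ⟨⟨l, hl⟩ * ⟨e, hEL he⟩ * ⟨l, hl⟩⁻¹, (inferInstance : W.Normal).conj_mem _
        (show (⟨e, hEL he⟩ : L) ∈ W from hker _ he) _, ?_⟩
      show l * e * l⁻¹ = l * h * e * (l * h)⁻¹
      rw [show l * h * e * (l * h)⁻¹ = l * (h * e * h⁻¹) * l⁻¹ by group, hcomm h hh e (hEH he),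
        mul_inv_cancel_right]
    refine hχ (Subtype.ext (funext fun x => ?_))
    have hall : ∀ y : L, (χ : ↥L → ℂ) y = (χ : ↥L → ℂ) 1 := fun y => by
      obtain ⟨w, hw, hwy⟩ := hLW y.2
      rw [← show w = y from Subtype.ext hwy]
      exact hw
    haveI := Fintype.ofFinite L
    have h1 := classInner_isIrr_self χ.2
    obtain ⟨m, hm0, hm⟩ := irr_one_pos χ.2
    rw [classInner_def, Finset.sum_congr rfl fun y _ => by rw [hall y, hm, map_natCast],
      Finset.sum_const, Finset.card_univ, nsmul_eq_mul, ← Nat.card_eq_fintype_card,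
      ← mul_assoc, inv_mul_cancel₀ natCard_ne_zero, one_mul] at h1
    have hm1 : m = 1 := by
      have : m * m = 1 := by exact_mod_cast h1
      exact Nat.eq_one_of_mul_eq_one_left this
    show (χ : ↥L → ℂ) x = 1
    rw [hall x, hm, hm1, Nat.cast_one]
  · -- `H` is normal in the proper subgroup `L ⊔ H`
    have h := of_subgroup ind htop le_sup_right hp hab hcl
    have hbot : Cfsg.oddCore ↥(L ⊔ H) = ⊥ := by
      have hle : (Cfsg.oddCore ↥(L ⊔ H)).map (L ⊔ H).subtype ≤ L := by
        rintro _ ⟨x, hx, rfl⟩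
        refine mem_of_odd_of_mem_sup hp ?_ x.2
        rw [Subgroup.coe_subtype, Subgroup.orderOf_coe]
        exact InvChar.Core.odd_card_oddCore.of_dvd_nat (Subgroup.orderOf_dvd_natCard _ hx)
      have hOL : Cfsg.oddCore ↥L = ⊥ :=
        InvChar.Core.oddCore_eq_bot_of_isSubnormal hO (Subgroup.Normal.isSubnormal inferInstance)
      set O' := Cfsg.oddCore ↥(L ⊔ H) with hO'
      let f : ↥L →* ↥(L ⊔ H) := Subgroup.inclusion le_sup_left
      have hcomap : O'.comap f ≤ Cfsg.oddCore ↥L := by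
        refine InvChar.Core.le_oddCore (Subgroup.Normal.comap inferInstance f) ?_
        refine InvChar.Core.odd_card_oddCore.of_dvd_nat (?_ : Nat.card (O'.comap f) ∣ Nat.card O')
        rw [← Subgroup.card_map_of_injective (Subgroup.inclusion_injective le_sup_left)]
        exact Subgroup.card_dvd_of_le (Subgroup.map_comap_le _ _)
      rw [eq_bot_iff]
      intro x hx
      have hxL : (x : G) ∈ L := hle ⟨x, hx, rfl⟩
      have hmem : (⟨x, hxL⟩ : L) ∈ O'.comap f := hx
      have := hcomap hmem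
      rw [hOL, Subgroup.mem_bot] at this
      exact Subtype.ext (show (x : G) = 1 from congrArg Subtype.val this :)
    rw [hbot, sup_bot_eq] at h
    have hLN : L ≤ N := fun x hx => mem_normalizer_of_le fun y hy => by
      have hx' : (⟨x, Subgroup.mem_sup_left hx⟩ : ↥(L ⊔ H)) ∈ Subgroup.normalizer
          ((H.subgroupOf (L ⊔ H) : Subgroup ↥(L ⊔ H)) : Set ↥(L ⊔ H)) := by
        rw [h]; exact Subgroup.mem_top _
      exact (Subgroup.mem_normalizer_iff.1 hx' ⟨y, Subgroup.mem_sup_right hy⟩).1 hy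
    refine hEne (hnoE E ⟨fun e he g => ?_⟩ hEH)
    obtain ⟨k, K, hK⟩ := exists_twist H hp hab hcl g
    have he' := (hEK g k K hK e).1 he
    set e' := k⁻¹ * (g * e * g⁻¹) * k with hedef
    have h1 : k * e' * k⁻¹ * e'⁻¹ ∈ L :=
      mul_mem ((inferInstance : L.Normal).conj_mem _ (hEL he') k) (inv_mem (hEL he'))
    have h2 : k * e' * k⁻¹ * e'⁻¹ ∈ K := by
      rw [show k * e' * k⁻¹ * e'⁻¹ = k * (e' * k⁻¹ * e'⁻¹) by group]
      exact mul_mem hK.mem (hK.inv _ (hEH he') _ (inv_mem hK.mem))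
    have h3 := hK.disj _ h2 (hLN h1)
    rw [mul_inv_eq_one] at h3
    rw [show g * e * g⁻¹ = k * e' * k⁻¹ by rw [hedef]; group, h3]
    exact he'

theorem smaller : ∀ n : ℕ, Smaller.{u} n := by
  intro n
  induction n with
  | zero => exact fun G _ _ h => absurd h (Nat.not_lt_zero _)
  | succ n ih =>
    intro G _ _ hlt H hp hab hcl
    rcases Nat.lt_succ_iff_lt_or_eq.1 hlt with h | h
    · exact ih G h H hp hab hcl
    subst h
    by_cases hO : Cfsg.oddCore G = ⊥
    · rw [normalizer_eq_top ih hO hp hab hcl, top_sup_eq]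
    · exact of_oddCore_ne_bot ih hp hab hcl hO

theorem normalizer_sup_oddCore (hp : IsPGroup 2 H) (hab : IsMulCommutative H)
    (hcl : Cfsg.IsExtremelyClosed H) :
    Subgroup.normalizer (H : Set G) ⊔ Cfsg.oddCore G = ⊤ :=
  smaller _ G (Nat.lt_succ_self _) H hp hab hcl

end Cfsg.Agent.ExtremelyClosed.Main
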